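import Cfsg.Agent.H491.DP.Num
import Cfsg.Agent.H715.DPU.Def
import Cfsg.Agent.H77.Step1

/-!
# S4247, row PSU, piece I: the numbers (helper491)
-/

set_option autoImplicit false

namespace Cfsg.Agent.H491.DP

open Cfsg.Agent.H715.DPU (tU)

theorem two_f_le {p f q : ℕ} (hp : p.Prime) (hf : 1 ≤ f) (hq : q = p ^ f) : 2 * f ≤ q := by
  rw [hq]
  refine le_trans ?_ (Nat.pow_le_pow_left hp.two_le f)
  clear hq
  induction f, hf using Nat.le_induction with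
  | base => norm_num
  | succ f hf ih => rw [pow_succ]; omega

theorem crude_step {q d : ℕ} (hq : 2 ≤ q) (hd : 1 ≤ d) (h : 3 * (d * (q ^ d + 1)) * q ≤ 2 * (q ^ d) ^ 2) :
    3 * ((d + 1) * (q ^ (d + 1) + 1)) * q ≤ 2 * (q ^ (d + 1)) ^ 2 := by
  rw [pow_succ]
  generalize q ^ d = Q at h
  have h1 : (d + 1) * (Q * q + 1) ≤ (d * (Q + 1)) * q ^ 2 := by
    calc (d + 1) * (Q * q + 1) ≤ (d * q) * ((Q + 1) * q) := by
          apply Nat.mul_le_mul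
          · nlinarith
          · nlinarith
      _ = (d * (Q + 1)) * q ^ 2 := by ring
  calc 3 * ((d + 1) * (Q * q + 1)) * q ≤ 3 * ((d * (Q + 1)) * q ^ 2) * q := by
        exact Nat.mul_le_mul_right _ (Nat.mul_le_mul_left _ h1)
    _ = (3 * (d * (Q + 1)) * q) * q ^ 2 := by ring
    _ ≤ (2 * Q ^ 2) * q ^ 2 := Nat.mul_le_mul_right _ h
    _ = 2 * (Q * q) ^ 2 := by ring

theorem crude {q d : ℕ} (h : (q = 2 ∧ 4 ≤ d) ∨ (3 ≤ q ∧ 3 ≤ d)) : 3 * (d * (q ^ d + 1)) * q ≤ 2 * (q ^ d) ^ 2 := by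
  rcases h with ⟨rfl, hd⟩ | ⟨hq, hd⟩
  · induction d, hd using Nat.le_induction with
    | base => norm_num
    | succ d hd ih => exact crude_step le_rfl (by omega) ih
  · induction d, hd using Nat.le_induction with
    | base =>
      have h9 : 9 ≤ q ^ 2 := by nlinarith
      have h3 : 1 ≤ q ^ 3 := Nat.one_le_pow _ _ (by omega)
      have h4 : 9 * (q ^ 3 + 1) ≤ 2 * (q ^ 2 * q ^ 3) := by nlinarith
      calc 3 * (3 * (q ^ 3 + 1)) * q = (9 * (q ^ 3 + 1)) * q := by ring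
        _ ≤ (2 * (q ^ 2 * q ^ 3)) * q := Nat.mul_le_mul_right _ h4
        _ = 2 * (q ^ 3) ^ 2 := by ring
    | succ d hd ih => exact crude_step (by omega) (by omega) ih

theorem tU_le (q d : ℕ) : tU q d ≤ q ^ d + 1 := by
  unfold tU
  split_ifs
  · omega
  · exact le_rfl

theorem tU_bound {q d : ℕ} (h : (q = 2 ∧ 4 ≤ d) ∨ (3 ≤ q ∧ 2 ≤ d)) : 3 * (d * tU q d) * q ≤ 2 * (q ^ d) ^ 2 := by
  by_cases h3 : 3 ≤ d
  · refine le_trans ?_ (crude (q := q) (d := d) (by omega))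
    exact Nat.mul_le_mul_right _ (Nat.mul_le_mul_left _ (Nat.mul_le_mul_left _ (tU_le q d)))
  · obtain rfl : d = 2 := by omega
    have hq : 3 ≤ q := by omega
    have h1 : tU q 2 = q ^ 2 - 1 := by
      unfold tU
      rw [if_pos (by decide)]
    rw [h1]
    have h2 : 3 * (q ^ 2 - 1) ≤ q ^ 3 := by
      have h3 : 3 * q ^ 2 ≤ q ^ 3 := by
        calc 3 * q ^ 2 ≤ q * q ^ 2 := Nat.mul_le_mul_right _ hq
          _ = q ^ 3 := by ring
      omega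
    calc 3 * (2 * (q ^ 2 - 1)) * q = 2 * q * (3 * (q ^ 2 - 1)) := by ring
      _ ≤ 2 * q * q ^ 3 := Nat.mul_le_mul_left _ h2
      _ = 2 * (q ^ 2) ^ 2 := by ring

/-- the engine -/
theorem engine {L C u Q a x q α β : ℕ} (hL : 3 * L ^ 2 ≤ C * (3 * u ^ 2) ^ a) (hα : α * (3 * u ^ 2) ≤ β * Q ^ 4)
    (hN : Q ^ a = q * x) (hx : 16 ≤ x) (hαp : 0 < α) (hE : 8 * C * β ^ a * q ^ 2 ≤ 21 * α ^ a) :
    L ≤ Q ^ a * (x - 1) := by
  obtain ⟨y, rfl⟩ : ∃ y, x = y + 1 := ⟨x - 1, by omega⟩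
  rw [Nat.add_sub_cancel]
  by_contra hlt
  push Not at hlt
  set N := Q ^ a with hNd
  have h1 : α ^ a * (3 * u ^ 2) ^ a ≤ β ^ a * N ^ 4 := by
    calc α ^ a * (3 * u ^ 2) ^ a = (α * (3 * u ^ 2)) ^ a := (mul_pow _ _ _).symm
      _ ≤ (β * Q ^ 4) ^ a := Nat.pow_le_pow_left hα a
      _ = β ^ a * N ^ 4 := by rw [mul_pow, hNd, ← pow_mul, ← pow_mul, mul_comm 4 a]
  have h2 : 3 * L ^ 2 * α ^ a ≤ C * β ^ a * N ^ 4 := by
    calc 3 * L ^ 2 * α ^ a ≤ C * (3 * u ^ 2) ^ a * α ^ a := Nat.mul_le_mul_right _ hL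
      _ = C * (α ^ a * (3 * u ^ 2) ^ a) := by ring
      _ ≤ C * (β ^ a * N ^ 4) := Nat.mul_le_mul_left _ h1
      _ = C * β ^ a * N ^ 4 := by ring
  have h3 : (N * y) ^ 2 < L ^ 2 := Nat.pow_lt_pow_left hlt (by norm_num)
  have h4 : 7 * (y + 1) ^ 2 ≤ 8 * y ^ 2 := by nlinarith
  have hpos : 0 < α ^ a := pow_pos hαp a
  have h5 : 21 * α ^ a * (N ^ 2 * (y + 1) ^ 2) < 8 * (3 * L ^ 2 * α ^ a) := by
    calc 21 * α ^ a * (N ^ 2 * (y + 1) ^ 2) = 3 * α ^ a * N ^ 2 * (7 * (y + 1) ^ 2) := by ring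
      _ ≤ 3 * α ^ a * N ^ 2 * (8 * y ^ 2) := Nat.mul_le_mul_left _ h4
      _ = 24 * α ^ a * (N * y) ^ 2 := by ring
      _ < 24 * α ^ a * L ^ 2 := Nat.mul_lt_mul_of_pos_left h3 (by positivity)
      _ = 8 * (3 * L ^ 2 * α ^ a) := by ring
  have h6 : 8 * (3 * L ^ 2 * α ^ a) ≤ 8 * C * β ^ a * q ^ 2 * (N ^ 2 * (y + 1) ^ 2) := by
    calc 8 * (3 * L ^ 2 * α ^ a) ≤ 8 * (C * β ^ a * N ^ 4) := Nat.mul_le_mul_left _ h2
      _ = 8 * C * β ^ a * (N ^ 2 * N ^ 2) := by ring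
      _ = 8 * C * β ^ a * (N ^ 2 * (q * (y + 1)) ^ 2) := by rw [hN]
      _ = 8 * C * β ^ a * q ^ 2 * (N ^ 2 * (y + 1) ^ 2) := by ring
  have h7 := Nat.mul_le_mul_right (N ^ 2 * (y + 1) ^ 2) hE
  omega

theorem hE2 {q a : ℕ} (hq : 2 ≤ q) (ha : 3 ≤ a) :
    8 * (q ^ 2 * (q - 1) ^ 2) * 4 ^ a * q ^ 2 ≤ 21 * (3 * q ^ 2) ^ a := by
  have h1 : (q - 1) ^ 2 ≤ q ^ 2 := Nat.pow_le_pow_left (Nat.sub_le _ _) 2
  induction a, ha using Nat.le_induction with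
  | base =>
    calc 8 * (q ^ 2 * (q - 1) ^ 2) * 4 ^ 3 * q ^ 2 ≤ 8 * (q ^ 2 * q ^ 2) * 4 ^ 3 * q ^ 2 :=
          Nat.mul_le_mul_right _ (Nat.mul_le_mul_right _ (Nat.mul_le_mul_left _ (Nat.mul_le_mul_left _ h1)))
      _ = 512 * q ^ 6 := by ring
      _ ≤ 567 * q ^ 6 := Nat.mul_le_mul_right _ (by norm_num)
      _ = 21 * (3 * q ^ 2) ^ 3 := by ring
  | succ a ha ih =>
    have h2 : 4 ≤ 3 * q ^ 2 := by nlinarith
    calc 8 * (q ^ 2 * (q - 1) ^ 2) * 4 ^ (a + 1) * q ^ 2 = (8 * (q ^ 2 * (q - 1) ^ 2) * 4 ^ a * q ^ 2) * 4 := by ring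
      _ ≤ (21 * (3 * q ^ 2) ^ a) * (3 * q ^ 2) := Nat.mul_le_mul ih h2
      _ = 21 * (3 * q ^ 2) ^ (a + 1) := by ring

theorem hE1 {q a : ℕ} (hq : 5 ≤ q) (ha : 5 ≤ a) :
    8 * (q ^ 2 * (q - 1) ^ 2) * 108 ^ a * q ^ 2 ≤ 21 * (25 * q ^ 2) ^ a := by
  have h1 : (q - 1) ^ 2 ≤ q ^ 2 := Nat.pow_le_pow_left (Nat.sub_le _ _) 2
  induction a, ha using Nat.le_induction with
  | base =>
    have h4 : 5 ^ 4 ≤ q ^ 4 := Nat.pow_le_pow_left hq 4
    calc 8 * (q ^ 2 * (q - 1) ^ 2) * 108 ^ 5 * q ^ 2 ≤ 8 * (q ^ 2 * q ^ 2) * 108 ^ 5 * q ^ 2 :=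
          Nat.mul_le_mul_right _ (Nat.mul_le_mul_right _ (Nat.mul_le_mul_left _ (Nat.mul_le_mul_left _ h1)))
      _ = 117546246144 * q ^ 6 := by ring
      _ ≤ (205078125 * 5 ^ 4) * q ^ 6 := Nat.mul_le_mul_right _ (by norm_num)
      _ ≤ (205078125 * q ^ 4) * q ^ 6 := Nat.mul_le_mul_right _ (Nat.mul_le_mul_left _ h4)
      _ = 21 * (25 * q ^ 2) ^ 5 := by ring
  | succ a ha ih =>
    have h2 : 108 ≤ 25 * q ^ 2 := by nlinarith
    calc 8 * (q ^ 2 * (q - 1) ^ 2) * 108 ^ (a + 1) * q ^ 2 = (8 * (q ^ 2 * (q - 1) ^ 2) * 108 ^ a * q ^ 2) * 108 := by ring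
      _ ≤ (21 * (25 * q ^ 2) ^ a) * (25 * q ^ 2) := Nat.mul_le_mul ih h2
      _ = 21 * (25 * q ^ 2) ^ (a + 1) := by ring

theorem hE4 {a : ℕ} (ha : 6 ≤ a) : 8 * (4 ^ 2 * (4 - 1) ^ 2) * 75 ^ a * 4 ^ 2 ≤ 21 * 256 ^ a := by
  induction a, ha using Nat.le_induction with
  | base => norm_num
  | succ a ha ih =>
    calc 8 * (4 ^ 2 * (4 - 1) ^ 2) * 75 ^ (a + 1) * 4 ^ 2 = (8 * (4 ^ 2 * (4 - 1) ^ 2) * 75 ^ a * 4 ^ 2) * 75 := by ring
      _ ≤ (21 * 256 ^ a) * 256 := Nat.mul_le_mul ih (by norm_num)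
      _ = 21 * 256 ^ (a + 1) := by ring

theorem sq_bound {c q t d a S : ℕ} (hc : c ≤ q) (ha : 1 ≤ a) (hS : S ^ 2 ≤ 3 ^ (a - 1)) :
    3 * (c * t ^ a * (d ^ a * S) * (q - 1)) ^ 2 ≤ (q ^ 2 * (q - 1) ^ 2) * (3 * (d * t) ^ 2) ^ a := by
  obtain ⟨b, rfl⟩ : ∃ b, a = b + 1 := ⟨a - 1, by omega⟩
  rw [Nat.add_sub_cancel] at hS
  calc 3 * (c * t ^ (b + 1) * (d ^ (b + 1) * S) * (q - 1)) ^ 2
      = 3 * (c ^ 2 * ((d * t) ^ 2) ^ (b + 1) * (q - 1) ^ 2) * S ^ 2 := by ring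
    _ ≤ 3 * (q ^ 2 * ((d * t) ^ 2) ^ (b + 1) * (q - 1) ^ 2) * 3 ^ b := by
      apply Nat.mul_le_mul _ hS
      exact Nat.mul_le_mul_left _ (Nat.mul_le_mul_right _ (Nat.mul_le_mul_right _ (Nat.pow_le_pow_left hc 2)))
    _ = (q ^ 2 * (q - 1) ^ 2) * (3 * (d * t) ^ 2) ^ (b + 1) := by rw [mul_pow 3]; ring

theorem pow_le_five {s k : ℕ} (hs : s.Prime) (hs2 : s ≠ 2) (hk : s ^ k ∣ 120) : s ^ k ≤ 5 := by
  rcases Nat.eq_zero_or_pos k with rfl | hk0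
  · norm_num
  · have h1 : s ∣ 120 := dvd_trans (dvd_pow_self s hk0.ne') hk
    have h2 : s = 3 ∨ s = 5 := by
      rw [show 120 = 2 ^ 3 * (3 * 5) by norm_num] at h1
      rcases (hs.dvd_mul).1 h1 with h | h
      · exact absurd ((Nat.prime_dvd_prime_iff_eq hs Nat.prime_two).1 (hs.dvd_of_dvd_pow h)) hs2
      · rcases (hs.dvd_mul).1 h with h | h
        · exact Or.inl ((Nat.prime_dvd_prime_iff_eq hs Nat.prime_three).1 h)
        · exact Or.inr ((Nat.prime_dvd_prime_iff_eq hs Nat.prime_five).1 h)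
    have h3 : k = 1 := by
      by_contra h
      have h4 : s ^ 2 ∣ 120 := dvd_trans (pow_dvd_pow s (by omega)) hk
      rcases h2 with rfl | rfl <;> norm_num at h4
    rw [h3, pow_one]
    omega

/-- `a ≥ 3` -/
theorem main3 {c q d a n s k : ℕ} (hc : c ≤ q) (hn : n = a * d) (h5 : 5 ≤ n) (ha : 3 ≤ a) (hs : s.Prime)
    (hs2 : s ≠ 2) (hk : s ^ k ∣ a.factorial) (hq : 2 ≤ q) (h2 : q = 2 → 4 ≤ d) (h3 : q = 3 → 2 ≤ d) :
    c * tU q d ^ a * (d ^ a * s ^ k) * (q - 1) ≤ q ^ n * (q ^ (n - 1) - 1) := by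
  have hs3 : 3 ≤ s := by
    have := hs.two_le
    omega
  have hS := fact_bound hs hs3 hk
  have hsq := sq_bound (t := tU q d) (d := d) hc (by omega) hS
  have hN : (q ^ d) ^ a = q * q ^ (n - 1) := by
    rw [← pow_mul, ← pow_succ', Nat.sub_add_cancel (by omega), hn, mul_comm]
  have hN' : q ^ n = (q ^ d) ^ a := by rw [← pow_mul, hn, mul_comm]
  have hx : 16 ≤ q ^ (n - 1) := by
    calc 16 = 2 ^ 4 := by norm_num
      _ ≤ q ^ 4 := Nat.pow_le_pow_left hq 4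
      _ ≤ q ^ (n - 1) := Nat.pow_le_pow_right (by omega) (by omega)
  rw [hN']
  by_cases hd : d = 1
  · subst hd
    have han : a = n := by omega
    have ht : tU q 1 = q + 1 := by
      unfold tU
      rw [if_neg (by decide), pow_one]
    by_cases hq4 : q = 4
    · subst hq4
      by_cases ha5 : a = 5
      · subst ha5
        subst han
        have h6 := pow_le_five hs hs2 (show s ^ k ∣ 120 from hk)
        rw [ht]
        calc c * (4 + 1) ^ 5 * (1 ^ 5 * s ^ k) * (4 - 1) ≤ 4 * (4 + 1) ^ 5 * (1 ^ 5 * 5) * (4 - 1) :=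
              Nat.mul_le_mul_right _ (Nat.mul_le_mul (Nat.mul_le_mul_right _ hc) (Nat.mul_le_mul_left _ h6))
          _ ≤ (4 ^ 1) ^ 5 * (4 ^ (5 - 1) - 1) := by norm_num
      · refine engine (α := 256) (β := 75) hsq ?_ hN hx (by norm_num) (hE4 (by omega))
        rw [ht]
        norm_num
    · have hq5 : 5 ≤ q := by
        by_contra h
        have : q = 2 ∨ q = 3 := by omega
        rcases this with h' | h'
        · have := h2 h'; omega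
        · have := h3 h'; omega
      refine engine (α := 25 * q ^ 2) (β := 108) hsq ?_ hN hx (by positivity) (hE1 hq5 (by omega))
      rw [ht, one_mul, pow_one]
      have h6 : 5 * (q + 1) ≤ 6 * q := by omega
      have h7 : (5 * (q + 1)) ^ 2 ≤ (6 * q) ^ 2 := Nat.pow_le_pow_left h6 2
      calc 25 * q ^ 2 * (3 * (q + 1) ^ 2) = 3 * q ^ 2 * (5 * (q + 1)) ^ 2 := by ring
        _ ≤ 3 * q ^ 2 * (6 * q) ^ 2 := Nat.mul_le_mul_left _ h7
        _ = 108 * q ^ 4 := by ring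
  · have hd2 : 2 ≤ d := by
      rcases Nat.eq_zero_or_pos d with h | h
      · rw [h, mul_zero] at hn; omega
      · omega
    have hA := tU_bound (q := q) (d := d) (by
      by_cases h : q = 2
      · exact Or.inl ⟨h, h2 h⟩
      · exact Or.inr ⟨by omega, hd2⟩)
    refine engine (α := 3 * q ^ 2) (β := 4) hsq ?_ hN hx (by positivity) (hE2 hq ha)
    calc 3 * q ^ 2 * (3 * (d * tU q d) ^ 2) = (3 * (d * tU q d) * q) ^ 2 := by ring
      _ ≤ (2 * (q ^ d) ^ 2) ^ 2 := Nat.pow_le_pow_left hA 2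
      _ = 4 * (q ^ d) ^ 4 := by ring

theorem small {q n : ℕ} (hq : 2 ≤ q) (hn : 5 ≤ n) : q * (q - 1) * n + 1 < q ^ (n - 1) := by
  obtain ⟨r, rfl⟩ : ∃ r, q = r + 2 := ⟨q - 2, by omega⟩
  rw [show r + 2 - 1 = r + 1 by omega]
  induction n, hn using Nat.le_induction with
  | base =>
    rw [show 5 - 1 = 4 by norm_num]
    have : (r + 2) ^ 4 = r ^ 4 + 8 * r ^ 3 + 24 * r ^ 2 + 32 * r + 16 := by ring
    rw [this]
    nlinarith [Nat.zero_le (r ^ 4), Nat.zero_le (r ^ 3), Nat.zero_le (r ^ 2)]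
  | succ n hn ih =>
    obtain ⟨m, rfl⟩ : ∃ m, n = m + 1 := ⟨n - 1, by omega⟩
    rw [Nat.add_sub_cancel] at ih ⊢
    have h1 : r + 2 ≤ (r + 2) ^ m := Nat.le_self_pow (by omega) _
    calc (r + 2) * (r + 1) * (m + 1 + 1) + 1 = ((r + 2) * (r + 1) * (m + 1) + 1) + (r + 2) * (r + 1) := by ring
      _ < (r + 2) ^ m + (r + 2) ^ m * (r + 1) := Nat.add_lt_add_of_lt_of_le ih (Nat.mul_le_mul_right _ h1)
      _ = (r + 2) ^ (m + 1) := by ring

theorem R0_lt {q n : ℕ} (hq : 2 ≤ q) (hn : 3 ≤ n) :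
    ((q ^ n * (q ^ (n - 1) - 1) : ℕ) : ℤ) < Cfsg.Agent.H77.Step1.In q n := by
  obtain ⟨m, rfl⟩ : ∃ m, n = m + 2 := ⟨n - 2, by omega⟩
  unfold Cfsg.Agent.H77.Step1.In
  rw [show m + 2 - 2 = m by omega, show m + 2 - 1 = m + 1 by omega]
  have h1 : 1 ≤ q ^ (m + 1) := Nat.one_le_pow _ _ (by omega)
  have h2 : (1 : ℤ) ≤ (q : ℤ) ^ m := by
    exact_mod_cast Nat.one_le_pow m q (by omega)
  have hq' : (2 : ℤ) ≤ q := by exact_mod_cast hq
  have h3 : ((-1 : ℤ)) ^ (m + 2) = 1 ∨ ((-1 : ℤ)) ^ (m + 2) = -1 := neg_one_pow_eq_or ℤ _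
  push_cast [Nat.cast_sub h1]
  rw [show (q : ℤ) ^ (m + 2) = (q : ℤ) ^ 2 * (q : ℤ) ^ m by ring, show (q : ℤ) ^ (m + 1) = q * (q : ℤ) ^ m by ring]
  generalize (q : ℤ) ^ m = X at h2
  have h4 : (2 : ℤ) ≤ q * X := by nlinarith
  rcases h3 with h3 | h3 <;> rw [h3]
  · have h5 : (q : ℤ) ^ 2 * X = q * (q * X) := by ring
    rw [h5]
    nlinarith
  · nlinarith

/-- Task I: numbers. -/
theorem num_psu {p f q n a d s k : ℕ} (hp : p.Prime) (hf : 1 ≤ f) (hq : q = p ^ f) (hn : n = a * d) (h5 : 5 ≤ n)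
    (ha : a = 1 ∨ 3 ≤ a) (hs : s.Prime) (hs2 : s ≠ 2) (hk : s ^ k ∣ a.factorial) (h2 : q = 2 → 4 ≤ d) (h3 : q = 3 → 2 ≤ d) :
    ((2 * f * tU q d ^ a * (d ^ a * s ^ k) * (q - 1) : ℕ) : ℤ) < Cfsg.Agent.H77.Step1.In q n ∧
      (q = 2 → Even n → 2 * tU 2 d ^ a * (d ^ a * s ^ k) < 2 ^ (n - 1) * (2 ^ n - 1)) := by
  have hc := two_f_le hp hf hq
  have hq2 : 2 ≤ q := by
    rw [hq]
    calc 2 ≤ p := hp.two_le
      _ ≤ p ^ f := Nat.le_self_pow (by omega) _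
  rcases ha with rfl | ha
  · have hd : d = n := by omega
    subst hd
    have hsk : s ^ k = 1 := Nat.dvd_one.1 (by simpa using hk)
    rw [hsk, mul_one, pow_one, pow_one]
    have hsm := small hq2 h5
    have h6 : 2 * f * d * (q - 1) ≤ q * (q - 1) * d := by
      calc 2 * f * d * (q - 1) ≤ q * d * (q - 1) := Nat.mul_le_mul_right _ (Nat.mul_le_mul_right _ hc)
        _ = q * (q - 1) * d := by ring
    constructor
    · have h1 : 1 ≤ q ^ d := Nat.one_le_pow _ _ (by omega)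
      have h7 : (((2 * f * d * (q - 1) : ℕ) : ℤ)) + 1 < (q : ℤ) ^ (d - 1) := by
        have : 2 * f * d * (q - 1) + 1 < q ^ (d - 1) := by omega
        exact_mod_cast this
      have e1 : (q : ℤ) ^ 2 * (q : ℤ) ^ (d - 2) = (q : ℤ) ^ d := by
        rw [← pow_add]; congr 1; omega
      have e2 : (q : ℤ) * (q : ℤ) ^ (d - 2) = (q : ℤ) ^ (d - 1) := by
        rw [← pow_succ']; congr 1; omega
      unfold Cfsg.Agent.H77.Step1.In
      rw [e1, e2]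
      have e3 : ((2 * f * tU q d * d * (q - 1) : ℕ) : ℤ) = (tU q d : ℤ) * ((2 * f * d * (q - 1) : ℕ) : ℤ) := by
        push_cast; ring
      rw [e3]
      have h8 : (32 : ℤ) ≤ (q : ℤ) ^ d := by
        have : 32 ≤ q ^ d := by
          calc 32 = 2 ^ 5 := by norm_num
            _ ≤ q ^ 5 := Nat.pow_le_pow_left hq2 5
            _ ≤ q ^ d := Nat.pow_le_pow_right (by omega) h5
        exact_mod_cast this
      rcases Nat.even_or_odd d with he | ho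
      · have e4 : (tU q d : ℤ) = (q : ℤ) ^ d - 1 := by
          unfold tU
          rw [if_pos he, Nat.cast_sub h1]
          push_cast; ring
        rw [e4, he.neg_one_pow]
        exact mul_lt_mul_of_pos_left (by linarith) (by linarith)
      · have e4 : (tU q d : ℤ) = (q : ℤ) ^ d + 1 := by
          unfold tU
          rw [if_neg (Nat.not_even_iff_odd.2 ho)]
          push_cast; ring
        rw [e4, ho.neg_one_pow, sub_neg_eq_add]
        exact mul_lt_mul_of_pos_left (by linarith) (by linarith)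
    · rintro rfl he
      have h1 : 2 ≤ 2 ^ d := by
        calc 2 = 2 ^ 1 := by norm_num
          _ ≤ 2 ^ d := Nat.pow_le_pow_right (by norm_num) (by omega)
      have e4 : tU 2 d = 2 ^ d - 1 := by
        unfold tU
        rw [if_pos he]
      rw [e4, pow_one]
      calc 2 * (2 ^ d - 1) * d = (2 * (2 - 1) * d) * (2 ^ d - 1) := by ring
        _ < 2 ^ (d - 1) * (2 ^ d - 1) := Nat.mul_lt_mul_of_pos_right (by omega) (by omega)
  · have hm := main3 hc hn h5 ha hs hs2 hk hq2 h2 h3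
    refine ⟨lt_of_le_of_lt (by exact_mod_cast hm) (R0_lt hq2 (by omega)), ?_⟩
    rintro rfl -
    have hm' := main3 (c := 2) le_rfl hn h5 ha hs hs2 hk hq2 h2 h3
    rw [show 2 - 1 = 1 by norm_num, mul_one] at hm'
    refine lt_of_le_of_lt hm' ?_
    have h1 : 16 ≤ 2 ^ (n - 1) := by
      calc 16 = 2 ^ 4 := by norm_num
        _ ≤ 2 ^ (n - 1) := Nat.pow_le_pow_right (by norm_num) (by omega)
    have h6 : 2 ^ n = 2 * 2 ^ (n - 1) := by
      rw [← pow_succ', Nat.sub_add_cancel (by omega)]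
    rw [h6]
    generalize 2 ^ (n - 1) = X at h1
    obtain ⟨Y, rfl⟩ : ∃ Y, X = Y + 1 := ⟨X - 1, by omega⟩
    rw [Nat.add_sub_cancel, show 2 * (Y + 1) - 1 = 2 * Y + 1 by omega]
    nlinarith

end Cfsg.Agent.H491.DP
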